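import Cfsg.Agent.H753.GT.Line
import Cfsg.Agent.H802.FusBasic

/-!
# S5211: the conjugates of `TL μ ν` and of `RL μ` in a fusion system (helper753)
-/

set_option autoImplicit false

namespace Cfsg.Agent.H753.GT

open Cfsg Cfsg.FusionSystem Cfsg.Agent.H756.PU Cfsg.Agent.H779.G2 Cfsg.Agent.H103.GT Cfsg.Agent.H710.GT
open Cfsg.Agent.H802

universe u

section
variable {K : Type u} [Field K]

theorem le_normalizerIn {H N : Subgroup (GU K)} (h2 : ∀ g ∈ N, ∀ x ∈ H, g * x * g⁻¹ ∈ H) : N ≤ normalizerIn ⊤ H := by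
  intro g hg
  refine ⟨trivial, Subgroup.mem_normalizer_iff.2 fun x => ⟨fun hx => h2 g hg x hx, fun hx => ?_⟩⟩
  have h3 := h2 g⁻¹ (N.inv_mem hg) _ hx
  have h4 : g⁻¹ * (g * x * g⁻¹) * g⁻¹⁻¹ = x := by group
  rwa [h4] at h3

/-- an abelian subgroup containing an element with `a, b ≠ 0` has order at most `q²` -/
theorem card_le_two [Finite K] (h2 : (2 : K) ≠ 0) (h3 : (3 : K) ≠ 0) {E2 : Subgroup (GU K)}
    (hab : ∀ x ∈ E2, ∀ y ∈ E2, x * y = y * x) {z : GU K} (hz : z ∈ E2) (ha : z.a ≠ 0) (hb : z.b ≠ 0) :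
    Nat.card E2 ≤ Nat.card K ^ 2 := by
  have hinj : Function.Injective (fun g : E2 => ((g : GU K).a, (g : GU K).f)) := by
    rintro ⟨g, hg⟩ ⟨g', hg'⟩ h
    have h1 : g.a = g'.a := congrArg Prod.fst h
    have h4 : g.f = g'.f := congrArg Prod.snd h
    have hw : g⁻¹ * g' ∈ E2 := E2.mul_mem (E2.inv_mem hg) hg'
    set w := g⁻¹ * g' with hwd
    have hg'w : g' = g * w := by rw [hwd, mul_inv_cancel_left]
    have wa : w.a = 0 := by
      rw [hwd, GU.mul_a, GU.inv_a, h1]; ring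
    have hc := hab z hz w hw
    have e1 := ((comm_iff _ _).1 hc).1
    rw [cm_c, wa] at e1
    have wb : w.b = 0 := by
      apply mul_left_cancel₀ ha
      linear_combination -e1
    obtain ⟨w1, w2, w3, w4, w5⟩ := mem_Z1.1 (mem_Z1_of_comm h2 h3 ha hb (z := w) ⟨wa, wb⟩ hc)
    have h5 : w.f = 0 := by
      have h6 : g.f = (g * w).f := by rw [← hg'w, h4]
      rw [GU.mul_f, w1, w2, w3] at h6
      linear_combination -h6
    have h7 : w = 1 := GU.ext w1 w2 w3 w4 w5 h5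
    rw [h7, mul_one] at hg'w
    exact Subtype.ext hg'w.symm
  calc Nat.card E2 ≤ Nat.card (K × K) := Nat.card_le_card_of_injective _ hinj
    _ = Nat.card K ^ 2 := by rw [Nat.card_prod]; ring

/-- self-centralizing abelian subgroups of order at least `q³` with a small normalizer -/
theorem class_TL [Finite K] (h2 : (2 : K) ≠ 0) (h3 : (3 : K) ≠ 0) {E2 : Subgroup (GU K)}
    (hab : ∀ x ∈ E2, ∀ y ∈ E2, x * y = y * x) (hcent : ∀ x, (∀ y ∈ E2, x * y = y * x) → x ∈ E2)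
    (hcard : Nat.card K ^ 3 ≤ Nat.card E2) (hN : Nat.card (normalizerIn ⊤ E2) ≤ Nat.card K ^ 4) :
    ∃ μ ν : K, E2 = TL μ ν := by
  have hq : 1 < Nat.card K := Finite.one_lt_card
  by_cases hQa : E2 ≤ Qa K
  · exfalso
    have hZ1 : Z1 K ≤ E2 := fun z hz => hcent z fun y _ => (comm_Z1 y hz).symm
    have h4 : Qa K ≤ normalizerIn ⊤ E2 := by
      apply le_normalizerIn
      intro g hg x hx
      have h5 := E2.mul_mem (hZ1 (com_Qa g hg x (hQa hx))) hx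
      rwa [inv_mul_cancel_right] at h5
    have h6 : Nat.card (Qa K) ≤ Nat.card (normalizerIn ⊤ E2) := Subgroup.card_le_of_le h4
    rw [card_Qa] at h6
    have h7 := (Nat.pow_le_pow_iff_right hq).1 (h6.trans hN)
    omega
  by_cases hQb : E2 ≤ Qb K
  · obtain ⟨x, hx, hxa⟩ := SetLike.not_le_iff_exists.1 hQa
    obtain ⟨μ, ν, hxT⟩ := exists_TL (hQb hx) hxa
    refine ⟨μ, ν, le_antisymm (fun y hy => mem_TL_of_comm h2 h3 hxT hxa (hQb hy) (hab x hx y hy)) ?_⟩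
    have h4 : E2 ≤ TL μ ν := fun y hy => mem_TL_of_comm h2 h3 hxT hxa (hQb hy) (hab x hx y hy)
    intro y hy
    exact hcent y fun z hz => comm_TL hy (h4 hz)
  · exfalso
    obtain ⟨z, hz, ha, hb⟩ := exists_both hQb hQa
    have h4 := card_le_two h2 h3 hab hz ha hb
    have h7 := (Nat.pow_le_pow_iff_right hq).1 (hcard.trans h4)
    omega

variable {F : FusionSystem (⊤ : Subgroup (GU K))} {μ ν : K}

/-- the conjugates of `TL μ ν` -/
theorem conj_TL_class [Finite K] (h2 : (2 : K) ≠ 0) (h3 : (3 : K) ≠ 0) (hc : F.IsCentric (TL μ ν))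
    (hf : F.IsFullyNormalized (TL μ ν)) {E2 : Subgroup (GU K)} (h : F.IsConj (TL μ ν) E2) :
    ∃ μ' ν' : K, E2 = TL μ' ν' := by
  have hcard := isConj_card_eq h
  have h1 := hf.2 E2 h
  rw [normalizerIn_TL h2, card_RL] at h1
  have h4 := hc.2 E2 h
  refine class_TL h2 h3 ?_ (fun x hx => h4 ⟨trivial, Subgroup.mem_centralizer_iff.2 fun y hy => (hx y hy).symm⟩)
    (by rw [← hcard, card_TL]) h1
  obtain ⟨φ, -, rfl⟩ := h
  rintro _ ⟨x, rfl⟩ _ ⟨y, rfl⟩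
  rw [← map_mul, ← map_mul]
  congr 1
  exact Subtype.ext (comm_TL x.2 y.2)

/-- the conjugates of `RL μ` -/
theorem conj_RL_class [Finite K] (h2 : (2 : K) ≠ 0) (h3 : (3 : K) ≠ 0) (hc : F.IsCentric (TL μ ν))
    (hf : F.IsFullyNormalized (TL μ ν)) {R2 : Subgroup (GU K)} (h : F.IsConj (RL μ) R2) :
    ∃ μ' : K, R2 = RL μ' := by
  have hcard := isConj_card_eq h
  obtain ⟨φ, hφ, rfl⟩ := h
  have h1 := restrict_mem hφ (TL_le_RL (μ := μ) (ν := ν))
  obtain ⟨μ', ν', h4⟩ := conj_TL_class h2 h3 hc hf (isConj_range h1)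
  refine ⟨μ', Subgroup.eq_of_le_of_card_ge ?_ ?_⟩
  · rintro _ ⟨r, rfl⟩
    apply mem_RL_of_norm h2 (ν := ν')
    intro x hx
    rw [← h4] at hx ⊢
    obtain ⟨y, rfl⟩ := hx
    refine ⟨⟨r * y * (r : GU K)⁻¹, norm_TL r.2 y.2⟩, ?_⟩
    show φ _ = φ r * φ _ * (φ r)⁻¹
    rw [← map_inv, ← map_mul, ← map_mul]
    rfl
  · rw [← hcard, card_RL, card_RL]

theorem full_RL [Finite K] (h2 : (2 : K) ≠ 0) (h3 : (3 : K) ≠ 0) (hc : F.IsCentric (TL μ ν))
    (hf : F.IsFullyNormalized (TL μ ν)) : F.IsFullyNormalized (RL μ) := by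
  refine ⟨le_top, fun Q hQ => ?_⟩
  obtain ⟨μ', rfl⟩ := conj_RL_class h2 h3 hc hf hQ
  rw [normalizerIn_RL, normalizerIn_RL]

/-- `TL μ ν` is not conjugate to `Z₃` -/
theorem not_conj_Z3 [Finite K] (h2 : (2 : K) ≠ 0) (hf : F.IsFullyNormalized (TL μ ν)) : ¬ F.IsConj (TL μ ν) (Z3 K) := by
  intro h
  have hq : 1 < Nat.card K := Finite.one_lt_card
  have h1 := hf.2 _ h
  have h4 : (⊤ : Subgroup (GU K)) ≤ normalizerIn ⊤ (Z3 K) :=
    le_normalizerIn fun g _ x hx => normal_Z3.conj_mem x hx g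
  have h5 : Nat.card (GU K) ≤ Nat.card (normalizerIn ⊤ (Z3 K)) := by
    rw [← Subgroup.card_top (G := GU K)]
    exact Subgroup.card_le_of_le h4
  rw [normalizerIn_TL h2, card_RL] at h1
  rw [GU.card_eq] at h5
  have h7 := (Nat.pow_le_pow_iff_right hq).1 (h5.trans h1)
  omega

/-- `TL μ ν` and `TL μ ν'` are conjugate -/
theorem isConj_TL [Finite K] (h2 : (2 : K) ≠ 0) (ν' : K) : F.IsConj (TL μ ν) (TL μ ν') := by
  refine ⟨conjHom (TL μ ν) (x3 ((ν' - ν) / 2)), F.conj_mem le_top trivial, ?_⟩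
  have hle : (conjHom (TL μ ν) (x3 ((ν' - ν) / 2))).range ≤ TL μ ν' := by
    rintro _ ⟨x, rfl⟩
    have h1 := conj_TL (s := (ν' - ν) / 2) x.2
    have h4 : ν + 2 * ((ν' - ν) / 2) = ν' := by field_simp; ring
    rw [h4] at h1
    exact h1
  apply Subgroup.eq_of_le_of_card_ge hle
  have h5 : Nat.card (conjHom (TL μ ν) (x3 ((ν' - ν) / 2))).range = Nat.card (TL μ ν) :=
    (Nat.card_congr (MonoidHom.ofInjective (F.injective_of_mem (F.conj_mem (P := TL μ ν) (g := x3 ((ν' - ν) / 2)) le_top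
      trivial))).toEquiv).symm
  rw [h5, card_TL, card_TL]

/-- `Z₃` is invariant under `Aut_F(RL μ)` -/
theorem aut_Z3 [Finite K] (h2 : (2 : K) ≠ 0) (h3 : (3 : K) ≠ 0) (hf : F.IsFullyNormalized (TL μ ν)) :
    Inv (F.autGroup (RL μ)) (Z3 K) := by
  refine ⟨Z3_le_RL, fun β hβ e he => ?_⟩
  by_contra hcon
  obtain ⟨hb, hcc⟩ := mem_RL.1 (β e).2
  have ha : ((β e : RL μ) : GU K).a ≠ 0 := by
    intro ha
    exact hcon ⟨ha, hb, by rw [hcc, ha, mul_zero]⟩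
  obtain ⟨μ', ν', hT⟩ := exists_TL (RL_le_Qb (β e).2) ha
  have hμ : μ' = μ := by
    have h4 := (mem_TL.1 hT).2.1
    rw [hcc] at h4
    exact (mul_right_cancel₀ ha h4).symm
  subst hμ
  have h1 : ((RL μ').subtype.comp β.toMonoidHom).comp (Subgroup.inclusion (Z3_le_RL (μ := μ'))) ∈ F.Hom (Z3 K) :=
    restrict_mem ((mem_autGroup_iff F le_top β).1 hβ) Z3_le_RL
  have h4 := isConj_range h1
  have h5 : (((RL μ').subtype.comp β.toMonoidHom).comp (Subgroup.inclusion (Z3_le_RL (μ := μ')))).range = TL μ' ν' := by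
    apply Subgroup.eq_of_le_of_card_ge
    · rintro _ ⟨z, rfl⟩
      refine mem_TL_of_comm h2 h3 hT ha (RL_le_Qb (β _).2) ?_
      have h6 : e * ⟨z, Z3_le_RL z.2⟩ = ⟨z, Z3_le_RL z.2⟩ * e := Subtype.ext (comm_Z3 he z.2)
      have h7 := congrArg β h6
      rw [map_mul, map_mul] at h7
      exact congrArg Subtype.val h7
    · rw [← isConj_card_eq h4, card_TL, card_Z3]
  rw [h5] at h4
  exact not_conj_Z3 h2 hf (isConj_trans (isConj_TL h2 ν') (isConj_symm h4))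

/-- `Z₂` is invariant under `Aut(RL μ)` -/
theorem aut_Z2 (h2 : (2 : K) ≠ 0) (h3 : (3 : K) ≠ 0) (Γ : Subgroup (MulAut (RL μ))) : Inv Γ (Z2 K) := by
  refine inv_cent (inv_self Γ) (inv_self Γ) (inv_bot Γ) fun y => ⟨fun hy => ?_, fun hy => ?_⟩
  · exact ⟨Z2_le_TL.trans (TL_le_RL (ν := 0)) hy, fun b hb => cm_one.2 (comm_Qb_Z2 (RL_le_Qb hb) hy).symm⟩
  · exact cent_RL h2 h3 hy.1 fun x hx => cm_one.1 (hy.2 x hx)

end

end Cfsg.Agent.H753.GT
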