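import Mathlib

/-!
# S5211, (E5f): the arithmetic of the torus (helper753)

* `tau_eq_one` : a semilinear map regular on the non-zero elements of a finite field is linear;
* `field_contra` : the final contradiction `q - 1 ∣ p ^ k + 5`.
-/

set_option autoImplicit false

namespace Cfsg.Agent.H753.GT

theorem pow_gt (r k : ℕ) (hr : 1 ≤ r) : 1 + (k + 2) * r < (r + 1) ^ (k + 2) := by
  have h1 : 1 + (k + 1) * r ≤ (1 + r) ^ (k + 1) := by
    have := one_add_mul_le_pow (a := (r : ℤ)) (by omega) (k + 1)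
    have h2 : ((1 + (k + 1) * r : ℕ) : ℤ) ≤ (((1 + r) ^ (k + 1) : ℕ) : ℤ) := by push_cast; push_cast at this; linarith
    exact_mod_cast h2
  calc 1 + (k + 2) * r < (r + 1) * (1 + (k + 1) * r) := by nlinarith [Nat.zero_le k, Nat.zero_le (k * r)]
    _ ≤ (r + 1) * (1 + r) ^ (k + 1) := Nat.mul_le_mul_left _ h1
    _ = (r + 1) ^ (k + 2) := by rw [add_comm 1 r, ← pow_succ']

/-- a semilinear map regular on the non-zero elements is linear -/
theorem tau_eq_one {K : Type*} [Field K] [Finite K] {s : K} (hs : s ≠ 0) (τ : RingAut K) {T : K → K}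
    (hT : ∀ t, T t = s * τ t) (h : ∀ t : K, t ≠ 0 → ∃ j : ℕ, T^[j] 1 = t) : τ = 1 := by
  classical
  have := Fintype.ofFinite K
  have hfin : Finite (RingAut K) := Finite.of_injective (fun e : RingAut K => (e : K → K)) DFunLike.coe_injective
  have it : ∀ (j : ℕ) (t : K), T^[j] t = T^[j] 1 * (τ ^ j) t := by
    intro j
    induction j with
    | zero => intro t; simp
    | succ j ih =>
      intro t
      rw [Function.iterate_succ_apply', Function.iterate_succ_apply', ih t, hT, hT, map_mul, pow_succ']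
      rw [RingAut.mul_apply, mul_assoc]
  have hne : ∀ j : ℕ, T^[j] 1 ≠ 0 := by
    intro j
    induction j with
    | zero => exact one_ne_zero
    | succ j ih =>
      rw [Function.iterate_succ_apply', hT]
      exact mul_ne_zero hs (by simpa using ih)
  set m := orderOf τ with hm
  have hm0 : 0 < m := orderOf_pos τ
  set N := T^[m] 1 with hN
  have hTm : ∀ t, T^[m] t = N * t := by
    intro t
    rw [it, pow_orderOf_eq_one, RingAut.one_apply]
  have hτN : τ N = N := by
    have h1 : T (T^[m] 1) = T^[m] (T 1) := by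
      rw [← Function.iterate_succ_apply' T m 1, ← Function.iterate_succ_apply T m 1]
    rw [hTm, hTm, hT, hT, map_one, mul_one, mul_one, mul_comm N s] at h1
    exact mul_left_cancel₀ hs h1
  set G := Subgroup.zpowers τ with hGd
  have := Fintype.ofFinite G
  have hcG : Fintype.card G = m := by rw [← Nat.card_eq_fintype_card, hGd, Nat.card_zpowers]
  set K0 := FixedPoints.subfield G K with hK0
  have hNK : N ∈ K0 := by
    intro g
    have h1 : G ≤ MulAction.stabilizer (RingAut K) N := by
      rw [hGd, Subgroup.zpowers_le]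
      exact hτN
    exact h1 g.2
  have hfr : Module.finrank K0 K = m := by rw [← hcG]; exact FixedPoints.finrank_eq_card G K
  set q0 := Nat.card K0 with hq0
  have hq : Nat.card K = q0 ^ m := by
    rw [← hfr]
    exact Module.natCard_eq_pow_finrank
  have hq02 : 2 ≤ q0 := by
    have : 1 < Nat.card K0 := Finite.one_lt_card
    omega
  have hN1 : N ^ (q0 - 1) = 1 := by
    have h1 : (⟨N, hNK⟩ : K0) ≠ 0 := by
      intro h2
      exact hne m (congrArg Subtype.val h2)
    have := Fintype.ofFinite K0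
    have h2 := FiniteField.pow_card_sub_one_eq_one (⟨N, hNK⟩ : K0) h1
    rw [← Nat.card_eq_fintype_card] at h2
    exact congrArg Subtype.val h2
  set M := m * (q0 - 1) with hMd
  have hM0 : 0 < M := Nat.mul_pos hm0 (by omega)
  have hTM : T^[M] 1 = 1 := by
    have h1 : ∀ k : ℕ, ∀ t, (T^[m])^[k] t = N ^ k * t := by
      intro k
      induction k with
      | zero => intro t; simp
      | succ k ih =>
        intro t
        rw [Function.iterate_succ_apply', ih, hTm, pow_succ']
        ring
    rw [hMd, Function.iterate_mul, h1, hN1, one_mul]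
  have hper : Function.IsPeriodicPt T M 1 := hTM
  have hcard : Nat.card Kˣ ≤ M := by
    have h1 : Function.Surjective (fun i : Fin M => Units.mk0 (T^[(i : ℕ)] 1) (hne i)) := by
      intro x
      obtain ⟨j, hj⟩ := h (x : K) x.ne_zero
      refine ⟨⟨j % M, Nat.mod_lt _ hM0⟩, ?_⟩
      apply Units.ext
      show T^[j % M] 1 = x
      rw [hper.iterate_mod_apply, hj]
    have h2 := Nat.card_le_card_of_surjective _ h1
    rwa [Nat.card_fin] at h2
  rw [Nat.card_units, hq] at hcard
  have hm1 : m = 1 := by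
    by_contra hm1
    obtain ⟨k, hk⟩ : ∃ k, m = k + 2 := ⟨m - 2, by omega⟩
    obtain ⟨r, hr⟩ : ∃ r, q0 = r + 1 := ⟨q0 - 1, by omega⟩
    have h1 := pow_gt r k (by omega)
    rw [hMd, hk, hr, Nat.add_sub_cancel] at hcard
    omega
  exact orderOf_eq_one_iff.1 hm1

/-- an additive bijection intertwining multiplications by a generator is a multiple of a ring isomorphism -/
theorem ringEquiv_of {K F : Type*} [Field K] [Field F] [Finite F] {φ : K → F} (hb : Function.Bijective φ)
    (ha : ∀ x y, φ (x + y) = φ x + φ y) {c : K} {g : Fˣ} (hg : ∀ x, x ∈ Subgroup.zpowers g)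
    (h : ∀ t, φ (c * t) = g * φ t) : ∃ ψ : K ≃+* F, ψ c = g := by
  have h0 : φ 0 = 0 := by
    have := ha 0 0
    rw [add_zero] at this
    exact left_eq_add.1 this
  have h1 : φ 1 ≠ 0 := by
    intro h1
    exact one_ne_zero (hb.1 (h1.trans h0.symm))
  have hp : ∀ (i : ℕ) (t : K), φ (c ^ i * t) = (g : F) ^ i * φ t := by
    intro i
    induction i with
    | zero => intro t; simp
    | succ i ih =>
      intro t
      rw [pow_succ', mul_assoc, h, ih, pow_succ', mul_assoc]
  have key : ∀ x : K, x ≠ 0 → ∃ i : ℕ, x = c ^ i ∧ φ x = (g : F) ^ i * φ 1 := by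
    intro x hx
    have hx' : φ x ≠ 0 := fun h2 => hx (hb.1 (h2.trans h0.symm))
    have h2 : φ x / φ 1 ≠ 0 := div_ne_zero hx' h1
    have h3 := hg (Units.mk0 _ h2)
    rw [← mem_powers_iff_mem_zpowers] at h3
    obtain ⟨i, hi⟩ := h3
    have hi' : (g : F) ^ i = φ x / φ 1 := by
      have := congrArg Units.val hi
      simpa using this
    refine ⟨i, ?_, ?_⟩
    · apply hb.1
      rw [← mul_one (c ^ i), hp, hi', div_mul_cancel₀ _ h1]
    · rw [hi', div_mul_cancel₀ _ h1]
  have hmul : ∀ x y, φ (x * y) = φ x * φ y / φ 1 := by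
    intro x y
    by_cases hx : x = 0
    · rw [hx, zero_mul, h0, zero_mul, zero_div]
    · obtain ⟨i, hi, hi'⟩ := key x hx
      rw [hi', hi, hp, mul_right_comm, mul_div_assoc, div_self h1, mul_one]
  let f : K →+* F :=
    { toFun := fun x => φ x / φ 1
      map_one' := div_self h1
      map_zero' := by rw [h0, zero_div]
      map_mul' := fun x y => by rw [hmul]; field_simp
      map_add' := fun x y => by rw [ha, add_div] }
  have hf : Function.Bijective f := by
    constructor
    · intro x y hxy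
      apply hb.1
      have h2 : φ x / φ 1 = φ y / φ 1 := hxy
      field_simp at h2
      exact h2
    · intro y
      obtain ⟨x, hx⟩ := hb.2 (y * φ 1)
      refine ⟨x, ?_⟩
      show φ x / φ 1 = y
      rw [hx, mul_div_assoc, div_self h1, mul_one]
  refine ⟨RingEquiv.ofBijective f hf, ?_⟩
  show φ c / φ 1 = g
  rw [← mul_one c, h, mul_div_assoc, div_self h1, mul_one]

/-- automorphisms of finite fields are powers of the Frobenius automorphism -/
theorem aut_eq_frob {F : Type*} [Field F] [Finite F] {p n : ℕ} [Fact p.Prime] [CharP F p] (hF : Nat.card F = p ^ n)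
    (θ : F ≃+* F) : ∃ k < n, ∀ x, θ x = x ^ p ^ k := by
  let := ZMod.algebra F p
  have hfr : Module.finrank (ZMod p) F = n := by
    have h1 := Module.natCard_eq_pow_finrank (K := ZMod p) (V := F)
    rw [hF, Nat.card_zmod] at h1
    exact (Nat.pow_right_injective (Fact.out : p.Prime).two_le h1).symm
  let θ' : F ≃ₐ[ZMod p] F := AlgEquiv.ofRingEquiv (f := θ) (fun x => by
    have h1 : (θ.toRingHom.comp (algebraMap (ZMod p) F)) = algebraMap (ZMod p) F := RingHom.ext_zmod _ _
    exact congrArg (fun f : ZMod p →+* F => f x) h1)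
  obtain ⟨k, hk⟩ := (FiniteField.bijective_frobeniusAlgEquivOfAlgebraic_pow (ZMod p) F).2 θ'
  refine ⟨k, hfr ▸ k.2, fun x => ?_⟩
  have h1 : θ x = θ' x := rfl
  rw [h1, ← hk]
  have h2 : ∀ (j : ℕ) (x : F), ((FiniteField.frobeniusAlgEquivOfAlgebraic (ZMod p) F) ^ j) x = x ^ p ^ j := by
    intro j
    induction j with
    | zero => intro x; simp
    | succ j ih =>
      intro x
      rw [pow_succ', AlgEquiv.mul_apply, ih, FiniteField.coe_frobeniusAlgEquivOfAlgebraic, pow_succ, pow_mul]
      simp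
  exact h2 k x

/-- the final contradiction -/
theorem field_contra {K F : Type*} [Field K] [Field F] [Finite K] [Finite F] {p n : ℕ} [Fact p.Prime] [CharP F p]
    (h5 : 5 ≤ p) (hn : 1 ≤ n) (hpn : ¬ (p = 7 ∧ n = 1)) (hF : Nat.card F = p ^ n) {s : K} (hs : s ≠ 0) (τ : RingAut K)
    {g : Fˣ} (hg : ∀ x, x ∈ Subgroup.zpowers g) {φ φ' : K → F} (hb : Function.Bijective φ)
    (hb' : Function.Bijective φ') (ha : ∀ x y, φ (x + y) = φ x + φ y) (ha' : ∀ x y, φ' (x + y) = φ' x + φ' y)
    (h1 : ∀ t, φ (s * τ t) = (g : F)⁻¹ * φ t) (h2 : ∀ t, φ' (s ^ 5 * τ t) = g * φ' t) : False := by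
  have hgi : ∀ x, x ∈ Subgroup.zpowers g⁻¹ := by
    intro x
    rw [Subgroup.zpowers_inv]
    exact hg x
  have h0 : φ 0 = 0 := by
    have := ha 0 0
    rw [add_zero] at this
    exact left_eq_add.1 this
  have h10 : φ 1 ≠ 0 := by
    intro h1
    exact one_ne_zero (hb.1 (h1.trans h0.symm))
  have hτ : τ = 1 := by
    refine tau_eq_one hs τ (T := fun t => s * τ t) (fun _ => rfl) fun t ht => ?_
    have hit : ∀ j : ℕ, φ ((fun t => s * τ t)^[j] 1) = ((g⁻¹ : Fˣ) : F) ^ j * φ 1 := by
      intro j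
      induction j with
      | zero => simp
      | succ j ih =>
        rw [Function.iterate_succ_apply', h1, ih, pow_succ', Units.val_inv_eq_inv_val, mul_assoc]
    have hx' : φ t ≠ 0 := fun h2 => ht (hb.1 (h2.trans h0.symm))
    have h3 := hgi (Units.mk0 _ (div_ne_zero hx' h10))
    rw [← mem_powers_iff_mem_zpowers] at h3
    obtain ⟨i, hi⟩ := h3
    have hi' : ((g⁻¹ : Fˣ) : F) ^ i = φ t / φ 1 := by
      have := congrArg Units.val hi
      simpa using this
    refine ⟨i, hb.1 ?_⟩
    rw [hit, hi', div_mul_cancel₀ _ h10]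
  subst hτ
  obtain ⟨ψ, hψ⟩ := ringEquiv_of (c := s) hb ha hgi (fun t => by
    have := h1 t
    rw [RingAut.one_apply] at this
    rw [this, Units.val_inv_eq_inv_val])
  obtain ⟨ψ', hψ'⟩ := ringEquiv_of (c := s ^ 5) hb' ha' hg (fun t => by
    have := h2 t
    rwa [RingAut.one_apply] at this)
  obtain ⟨k, hk, hθ⟩ := aut_eq_frob hF (ψ'.symm.trans ψ)
  have h3 : (ψ'.symm.trans ψ) (g : F) = ((g⁻¹ : Fˣ) : F) ^ 5 := by
    rw [RingEquiv.trans_apply, ← hψ', RingEquiv.symm_apply_apply, map_pow, hψ]
  rw [hθ] at h3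
  have h4 : g ^ (p ^ k + 5) = 1 := by
    apply Units.ext
    rw [Units.val_pow_eq_pow_val, pow_add, h3, ← mul_pow, Units.inv_mul, one_pow, Units.val_one]
  have h6 := orderOf_dvd_of_pow_eq_one h4
  rw [orderOf_eq_card_of_forall_mem_zpowers hg, Nat.card_units, hF] at h6
  have h7 := Nat.le_of_dvd (by omega) h6
  obtain ⟨j, rfl⟩ : ∃ j, n = j + 1 := ⟨n - 1, by omega⟩
  have hkj : p ^ k ≤ p ^ j := Nat.pow_le_pow_right (by omega) (by omega)
  have h8 : p ^ (j + 1) ≤ p ^ j + 6 := by omega
  rw [pow_succ] at h8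
  have hj0 : j = 0 := by
    by_contra hj
    have h9 : p ≤ p ^ j := Nat.le_self_pow hj p
    nlinarith
  subst hj0
  have hk0 : k = 0 := by omega
  subst hk0
  rw [zero_add, pow_one, pow_zero] at h6
  have hp7 : p ≤ 7 := by
    simp only [pow_zero, one_mul] at h8
    omega
  have hne : p ≠ 7 := fun h => hpn ⟨h, rfl⟩
  have hpp : p.Prime := Fact.out
  interval_cases p
  · omega
  · exact absurd hpp (by norm_num)
  · exact hne rfl

end Cfsg.Agent.H753.GT
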