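import Cfsg.Agent.H103.GT.Coord
import Cfsg.Agent.H710.GT.EFiveC

/-!
# S5211: the abelian subgroups `TL μ ν` of `Q_b` and their normalizers `RL μ` (helper753)
-/

set_option autoImplicit false

namespace Cfsg.Agent.H753.GT

open Cfsg Cfsg.FusionSystem Cfsg.Agent.H756.PU Cfsg.Agent.H779.G2 Cfsg.Agent.H103.GT

universe u

section
variable {K : Type u} [Field K]

/-- conjugates of `X₁X₅X₆` -/
def TL (μ ν : K) : Subgroup (GU K) where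
  carrier := {g | g.b = 0 ∧ g.c = μ * g.a ∧ g.d = μ * g.a ^ 2 + ν * g.a}
  one_mem' := by simp
  mul_mem' := by
    rintro x y ⟨h1, h2, h3⟩ ⟨k1, k2, k3⟩
    refine ⟨?_, ?_, ?_⟩
    · rw [GU.mul_b, h1, k1, add_zero]
    · rw [GU.mul_c, GU.mul_a, h1, h2, k2]; ring
    · rw [GU.mul_d, GU.mul_a, h1, h2, h3, k3]; ring
  inv_mem' := by
    rintro x ⟨h1, h2, h3⟩
    refine ⟨?_, ?_, ?_⟩
    · rw [GU.inv_b, h1, neg_zero]
    · rw [GU.inv_c, GU.inv_a, h1, h2]; ring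
    · rw [GU.inv_d, GU.inv_a, h1, h2, h3]; ring

/-- the normalizer of `TL μ ν` -/
def RL (μ : K) : Subgroup (GU K) where
  carrier := {g | g.b = 0 ∧ g.c = μ * g.a}
  one_mem' := by simp
  mul_mem' := by
    rintro x y ⟨h1, h2⟩ ⟨k1, k2⟩
    refine ⟨?_, ?_⟩
    · rw [GU.mul_b, h1, k1, add_zero]
    · rw [GU.mul_c, GU.mul_a, h1, h2, k2]; ring
  inv_mem' := by
    rintro x ⟨h1, h2⟩
    refine ⟨?_, ?_⟩
    · rw [GU.inv_b, h1, neg_zero]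
    · rw [GU.inv_c, GU.inv_a, h1, h2]; ring

variable {μ ν : K}

theorem mem_TL {g : GU K} : g ∈ TL μ ν ↔ g.b = 0 ∧ g.c = μ * g.a ∧ g.d = μ * g.a ^ 2 + ν * g.a := Iff.rfl

theorem mem_RL {g : GU K} : g ∈ RL μ ↔ g.b = 0 ∧ g.c = μ * g.a := Iff.rfl

theorem TL_le_RL : TL μ ν ≤ RL μ := fun _ h => ⟨h.1, h.2.1⟩
theorem RL_le_Qb : RL μ ≤ Qb K := fun _ h => h.1
theorem TL_le_Qb : TL μ ν ≤ Qb K := fun _ h => h.1
theorem Z2_le_TL : Z2 K ≤ TL μ ν := fun g h => by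
  obtain ⟨h1, h2, h3, h4⟩ := mem_Z2.1 h
  exact ⟨h2, by rw [h1, h3, mul_zero], by rw [h1, h4]; ring⟩
theorem Z3_le_RL : Z3 K ≤ RL μ := fun g h => by
  obtain ⟨h1, h2, h3⟩ := mem_Z3.1 h
  exact ⟨h2, by rw [h1, h3, mul_zero]⟩

/-- coordinates of `TL` -/
def equiv_TL (μ ν : K) : TL μ ν ≃ K × K × K where
  toFun x := ((x : GU K).a, (x : GU K).e, (x : GU K).f)
  invFun y := ⟨⟨y.1, 0, μ * y.1, μ * y.1 ^ 2 + ν * y.1, y.2.1, y.2.2⟩, ⟨rfl, rfl, rfl⟩⟩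
  left_inv x := by
    apply Subtype.ext
    obtain ⟨hb, hc, hd⟩ := mem_TL.1 x.2
    ext
    · rfl
    · exact hb.symm
    · exact hc.symm
    · exact hd.symm
    · rfl
    · rfl
  right_inv y := rfl

theorem card_TL [Finite K] : Nat.card (TL μ ν) = Nat.card K ^ 3 := by
  rw [Nat.card_congr (equiv_TL μ ν)]
  simp only [Nat.card_prod]
  ring

/-- coordinates of `RL` -/
def equiv_RL (μ : K) : RL μ ≃ K × K × K × K where
  toFun x := ((x : GU K).a, (x : GU K).d, (x : GU K).e, (x : GU K).f)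
  invFun y := ⟨⟨y.1, 0, μ * y.1, y.2.1, y.2.2.1, y.2.2.2⟩, ⟨rfl, rfl⟩⟩
  left_inv x := by
    apply Subtype.ext
    obtain ⟨hb, hc⟩ := mem_RL.1 x.2
    ext
    · rfl
    · exact hb.symm
    · exact hc.symm
    · rfl
    · rfl
    · rfl
  right_inv y := rfl

theorem card_RL [Finite K] : Nat.card (RL μ) = Nat.card K ^ 4 := by
  rw [Nat.card_congr (equiv_RL μ)]
  simp only [Nat.card_prod]
  ring

/-- `TL` is abelian -/
theorem comm_TL {x y : GU K} (hx : x ∈ TL μ ν) (hy : y ∈ TL μ ν) : x * y = y * x := by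
  obtain ⟨h1, h2, h3⟩ := mem_TL.1 hx
  obtain ⟨k1, k2, k3⟩ := mem_TL.1 hy
  rw [comm_iff, cm_c, cm_d, cm_e, cm_f, h1, h2, h3, k1, k2, k3]
  refine ⟨?_, ?_, ?_, ?_⟩ <;> ring

/-- the centralizer in `Q_b` of an element with `a ≠ 0` -/
theorem mem_TL_of_comm (h2 : (2 : K) ≠ 0) (h3 : (3 : K) ≠ 0) {x y : GU K} (hx : x ∈ TL μ ν) (ha : x.a ≠ 0)
    (hy : y ∈ Qb K) (h : x * y = y * x) : y ∈ TL μ ν := by
  obtain ⟨k1, k2, k3⟩ := mem_TL.1 hx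
  have k4 : y.b = 0 := hy
  obtain ⟨-, e1, e2, -⟩ := (comm_iff _ _).1 h
  rw [cm_d, k1, k2, k4] at e1
  rw [cm_e, k1, k2, k3, k4] at e2
  have hc : y.c = μ * y.a := by
    apply mul_left_cancel₀ (mul_ne_zero h2 ha)
    linear_combination -e1
  refine ⟨k4, hc, ?_⟩
  rw [hc] at e2
  apply mul_left_cancel₀ (mul_ne_zero h3 ha)
  linear_combination -e2

theorem exists_TL {x : GU K} (hx : x ∈ Qb K) (ha : x.a ≠ 0) : ∃ μ ν : K, x ∈ TL μ ν := by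
  have hb : x.b = 0 := hx
  refine ⟨x.c / x.a, (x.d - x.c * x.a) / x.a, hb, ?_, ?_⟩
  · field_simp
  · field_simp
    ring

/-- the normalizer of `TL μ ν` -/
theorem mem_RL_of_norm (h2 : (2 : K) ≠ 0) {g : GU K} (h : ∀ x ∈ TL μ ν, g * x * g⁻¹ ∈ TL μ ν) : g ∈ RL μ := by
  have h1 := h ⟨1, 0, μ * 1, μ * 1 ^ 2 + ν * 1, 0, 0⟩ ⟨rfl, rfl, rfl⟩
  obtain ⟨-, e1, e2⟩ := mem_TL.1 h1
  rw [cj_c, cj_a] at e1
  rw [cj_d, cj_a] at e2
  simp only at e1 e2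
  have hb : g.b = 0 := by linear_combination e1
  rw [hb] at e2
  refine ⟨hb, ?_⟩
  apply mul_left_cancel₀ h2
  linear_combination e2

theorem norm_TL {g : GU K} (hg : g ∈ RL μ) {x : GU K} (hx : x ∈ TL μ ν) : g * x * g⁻¹ ∈ TL μ ν := by
  obtain ⟨h1, h2⟩ := mem_RL.1 hg
  obtain ⟨k1, k2, k3⟩ := mem_TL.1 hx
  refine ⟨?_, ?_, ?_⟩
  · rw [cj_b, k1]
  · rw [cj_c, cj_a, h1, k1, k2]; ring
  · rw [cj_d, cj_a, h1, h2, k1, k2, k3]; ring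

theorem mem_Qb_of_norm {g : GU K} (h : ∀ x ∈ RL μ, g * x * g⁻¹ ∈ RL μ) : g ∈ Qb K := by
  have h1 := h ⟨1, 0, μ * 1, 0, 0, 0⟩ ⟨rfl, rfl⟩
  obtain ⟨-, e1⟩ := mem_RL.1 h1
  rw [cj_c, cj_a] at e1
  simp only at e1
  show g.b = 0
  linear_combination e1

theorem norm_RL {g : GU K} (hg : g ∈ Qb K) {x : GU K} (hx : x ∈ RL μ) : g * x * g⁻¹ ∈ RL μ := by
  have h1 : g.b = 0 := hg
  obtain ⟨k1, k2⟩ := mem_RL.1 hx
  refine ⟨?_, ?_⟩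
  · rw [cj_b, k1]
  · rw [cj_c, cj_a, h1, k1, k2]; ring

theorem normalizer_eq {H N : Subgroup (GU K)} (h1 : ∀ g, (∀ x ∈ H, g * x * g⁻¹ ∈ H) → g ∈ N)
    (h2 : ∀ g ∈ N, ∀ x ∈ H, g * x * g⁻¹ ∈ H) : normalizerIn ⊤ H = N := by
  ext g
  constructor
  · rintro ⟨-, hg⟩
    exact h1 g fun x hx => (Subgroup.mem_normalizer_iff.1 hg x).1 hx
  · intro hg
    refine ⟨trivial, Subgroup.mem_normalizer_iff.2 fun x => ⟨fun hx => h2 g hg x hx, fun hx => ?_⟩⟩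
    have h3 := h2 g⁻¹ (N.inv_mem hg) _ hx
    have h4 : g⁻¹ * (g * x * g⁻¹) * g⁻¹⁻¹ = x := by group
    rwa [h4] at h3

theorem normalizerIn_TL (h2 : (2 : K) ≠ 0) : normalizerIn ⊤ (TL μ ν) = RL μ :=
  normalizer_eq (fun _ h => mem_RL_of_norm h2 h) fun _ hg _ hx => norm_TL hg hx

theorem normalizerIn_RL : normalizerIn ⊤ (RL μ) = Qb K :=
  normalizer_eq (fun _ h => mem_Qb_of_norm h) fun _ hg _ hx => norm_RL hg hx

/-- `x₃(s)` moves `TL μ ν` to `TL μ (ν + 2s)` -/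
theorem conj_TL {s : K} {x : GU K} (hx : x ∈ TL μ ν) : x3 s * x * (x3 s)⁻¹ ∈ TL μ (ν + 2 * s) := by
  obtain ⟨k1, k2, k3⟩ := mem_TL.1 hx
  refine ⟨?_, ?_, ?_⟩
  · rw [cj_b, k1]
  · rw [cj_c, cj_a, k1, k2]; simp only [x3]; ring
  · rw [cj_d, cj_a, k1, k2, k3]; simp only [x3]; ring

/-- the centre of `RL μ` -/
theorem cent_RL (h2 : (2 : K) ≠ 0) (h3 : (3 : K) ≠ 0) {y : GU K} (hy : y ∈ RL μ) (h : ∀ x ∈ RL μ, y * x = x * y) :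
    y ∈ Z2 K := by
  obtain ⟨k1, k2⟩ := mem_RL.1 hy
  have e1 := (comm_iff _ _).1 (h (x4 1) (Z3_le_RL (x4_mem 1)))
  rw [cm_e] at e1
  obtain ⟨-, -, e1, -⟩ := e1
  simp only [x4] at e1
  have ha : y.a = 0 := by
    apply mul_left_cancel₀ h3
    linear_combination -e1
  have e2 := (comm_iff _ _).1 (h ⟨1, 0, μ * 1, 0, 0, 0⟩ ⟨rfl, rfl⟩)
  rw [cm_e] at e2
  obtain ⟨-, -, e2, -⟩ := e2
  rw [ha, k1, k2, ha] at e2
  simp only at e2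
  refine ⟨ha, k1, by rw [k2, ha, mul_zero], ?_⟩
  apply mul_left_cancel₀ h3
  linear_combination e2

/-- powers in `TL 0 0` -/
theorem pow_TL0 {x : GU K} (hx : x ∈ TL (0 : K) 0) (k : ℕ) :
    x ^ k = ⟨k * x.a, 0, 0, 0, k * x.e, k * x.f⟩ := by
  obtain ⟨h1, h2, h3⟩ := mem_TL.1 hx
  rw [zero_mul] at h2
  rw [zero_mul, zero_mul, add_zero] at h3
  induction k with
  | zero =>
    rw [pow_zero]
    ext <;> simp
  | succ k ih =>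
    rw [pow_succ, ih]
    ext
    · simp only [GU.mul_a]; push_cast; ring
    · simp only [GU.mul_b, h1]; ring
    · simp only [GU.mul_c, h1, h2]; ring
    · simp only [GU.mul_d, h1, h2, h3]; ring
    · simp only [GU.mul_e, h1, h2, h3]; push_cast; ring
    · simp only [GU.mul_f, h1, h2, h3]; push_cast; ring

/-- `TL μ ν` has exponent `p` -/
theorem pow_TL {p : ℕ} [CharP K p] (h2 : (2 : K) ≠ 0) {x : GU K} (hx : x ∈ TL μ ν) : x ^ p = 1 := by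
  obtain ⟨h1, h4, h3⟩ := mem_TL.1 hx
  set h : GU K := x2 (-μ) with hh
  set h' : GU K := x3 (-(ν / 2)) with hh'
  -- first `x2`, then `x3`
  have e1 : h * x * h⁻¹ ∈ TL (0 : K) ν := by
    refine ⟨?_, ?_, ?_⟩
    · rw [cj_b, h1]
    · rw [cj_c, cj_a, h1, h4, hh]; simp only [x2]; ring
    · rw [cj_d, cj_a, h1, h4, h3, hh]; simp only [x2]; ring
  have e2 := conj_TL (s := -(ν / 2)) e1
  have e3 : ν + 2 * -(ν / 2) = 0 := by field_simp; ring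
  rw [e3] at e2
  have e4 := pow_TL0 e2 p
  have e5 : (x3 (-(ν / 2)) * (h * x * h⁻¹) * (x3 (-(ν / 2)))⁻¹) ^ p = 1 := by
    rw [e4]
    ext <;> simp
  have e6 : x3 (-(ν / 2)) * (h * x * h⁻¹) * (x3 (-(ν / 2)))⁻¹ = (x3 (-(ν / 2)) * h) * x * (x3 (-(ν / 2)) * h)⁻¹ := by
    group
  rw [e6, conj_pow] at e5
  exact conj_eq_one_iff.1 e5

/-- the `d`-coordinate modulo `TL` -/
def ps (μ ν : K) (g : GU K) : K := g.d - μ * g.a ^ 2 - ν * g.a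

theorem ps_mul {x y : GU K} (hx : x ∈ RL μ) : ps μ ν (x * y) = ps μ ν x + ps μ ν y := by
  obtain ⟨h1, h2⟩ := mem_RL.1 hx
  unfold ps
  rw [GU.mul_d, GU.mul_a, h1, h2]
  ring

theorem mem_TL_iff {x : GU K} (hx : x ∈ RL μ) : x ∈ TL μ ν ↔ ps μ ν x = 0 := by
  obtain ⟨h1, h2⟩ := mem_RL.1 hx
  unfold ps
  constructor
  · rintro ⟨-, -, h3⟩
    rw [h3]; ring
  · intro h
    exact ⟨h1, h2, by linear_combination h⟩

theorem ps_pow {x : GU K} (hx : x ∈ RL μ) (k : ℕ) : ps μ ν (x ^ k) = k * ps μ ν x := by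
  induction k with
  | zero => rw [pow_zero]; simp [ps]
  | succ k ih =>
    rw [pow_succ, ps_mul ((RL μ).pow_mem hx k), ih]
    push_cast
    ring

theorem pow_RL {p : ℕ} [CharP K p] {x : GU K} (hx : x ∈ RL μ) : x ^ p ∈ TL μ ν := by
  rw [mem_TL_iff ((RL μ).pow_mem hx p), ps_pow hx, CharP.cast_eq_zero, zero_mul]

/-- `[RL, RL] ≤ Z₂` -/
theorem com_RL : Com (RL μ) (RL μ) (Z2 K) := by
  intro x hx y hy
  obtain ⟨h1, h2⟩ := mem_RL.1 hx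
  obtain ⟨k1, k2⟩ := mem_RL.1 hy
  refine ⟨cm_a _ _, cm_b _ _, ?_, ?_⟩
  · rw [cm_c, h1, k1]; ring
  · rw [cm_d, h1, h2, k1, k2]; ring

theorem TL_inf_Z3 {x : GU K} (hx : x ∈ TL μ ν) (hx3 : x ∈ Z3 K) : x ∈ Z2 K := by
  obtain ⟨h1, h2, h3⟩ := mem_TL.1 hx
  obtain ⟨k1, k2, k3⟩ := mem_Z3.1 hx3
  exact ⟨k1, k2, k3, by rw [h3, k1]; ring⟩

end

end Cfsg.Agent.H753.GT
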